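import Mathlib
import Groth.Agent.Lib.Lead.Bdd.RegBdd
import Groth.Agent.Lib.Lead.Misc3.MumB1
import Groth.Agent.Lib.Lead.QC.AmpleGG
import Groth.Agent.Lib.Lead.QC.InvEpi
import Groth.Agent.Lib.Helper5.VAmple.J
import Groth.Agent.Lib.Lead.PN.HilbPoly
import Groth.Agent.Lib.Lead.PN.Chi
import Groth.Agent.Lib.Lead.PN.RegRes
import Groth.Agent.Lib.Lead.FBC.EulerBC

/-!
# Boundedness of the family of quotients of a coherent module on `P^n` with Hilbert function in a
finite set.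
-/

set_option autoImplicit false
set_option linter.style.haveILetI false
universe u
open CategoryTheory CategoryTheory.Limits AlgebraicGeometry TopologicalSpace Opposite

namespace Groth.Agent.LD.Bdd

open Groth.Agent.LD Groth.Agent.LD.QC Groth.Agent.LD.PN Twist TW Polynomial

section
variable (n : ℕ) (k : Type u) [Field k]

theorem chi_eq_eulerCharLE (M : (Proj (CohB1.polyGrading n k)).Modules) :
    ((PN.chi n k M : ℤ) : ℚ) =
      ((FGA.eulerCharLE k (Proj (CohB1.polyGrading n k)) M n : ℤ) : ℚ) := by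
  rw [Groth.Agent.H2.TopCoh.chi_eq_sum]
  unfold FGA.eulerCharLE
  rw [Int.cast_sum]
  refine Finset.sum_congr rfl (fun j _ => ?_)
  simp

theorem eulerCharLE_iso {X : Scheme.{u}} [X.Over (Spec (CommRingCat.of k))] {M N : X.Modules}
    (e : M ≅ N) (d : ℕ) : FGA.eulerCharLE k X M d = FGA.eulerCharLE k X N d := by
  unfold FGA.eulerCharLE
  refine Finset.sum_congr rfl (fun j _ => ?_)
  rw [FBC.finrank_HH_congr k e j]

/-- `(F ⊗ Λ)(t) ≅ F(a + t)` for `Λ ≅ O(a)`. -/
noncomputable def shiftIso (F : (Proj (CohB1.polyGrading n k)).Modules) [F.IsQuasicoherent]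
    (Λ : (Proj (CohB1.polyGrading n k)).Modules) (a : ℤ)
    (eΛ : twist (CohB1.polyGrading n k) a ≅ Λ) (t : ℤ) :
    kG n k (CohB1.tensorMod F Λ) t ≅ kG n k F (a + t) :=
  haveI := qc_twist n k t
  haveI : Λ.IsQuasicoherent := QC.qc_of_iso eΛ (qc_twist n k a)
  QC.tensorAssoc F Λ (twist (CohB1.polyGrading n k) t) ≪≫
    QC.tensorIso' (Iso.refl F)
      (QC.tensorIso' eΛ.symm (Iso.refl (twist (CohB1.polyGrading n k) t)) ≪≫
        twistMulIso n k a t (a + t) rfl)

/-- `F ⊗ id^* O(d) ≅ F(d)`. -/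
noncomputable def idTw (F : (Proj (CohB1.polyGrading n k)).Modules) (d : ℤ) :
    twOn n k (𝟙 (Proj (CohB1.polyGrading n k))) F d ≅ kG n k F d :=
  QC.tensorIso' (Iso.refl F) ((Scheme.Modules.pullbackId _).app (twist (CohB1.polyGrading n k) d))

/-- a quotient of `O^K` whose kernel is `m`-regular, `m ≥ 0`, is `m`-regular. -/
theorem isReg_quot (K : ℕ) (G : (Proj (CohB1.polyGrading n k)).Modules)
    (q : FlatMod.freeMod (Proj (CohB1.polyGrading n k)) K ⟶ G) (hq : Epi q) (hG : Coh.IsCoh G)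
    (m : ℤ) (hm : 0 ≤ m) (hker : IsReg n k (kernel q) m) : IsReg n k G m := by
  haveI := hq
  have hK : Coh.IsCoh (kernel q) := PN.isCoh_kernel n k q (DF.isCoh_freeMod _ K) hG
  haveI := hK.1
  intro j hj
  have hS : (ShortComplex.mk (kernel.ι q) q (kernel.condition q)).ShortExact :=
    { exact := ShortComplex.exact_kernel q
      mono_f := inferInstanceAs (Mono (kernel.ι q))
      epi_g := inferInstanceAs (Epi q) }
  have hSt := QC.shortExact_tensorMap_of_isInvertible hS (twist (CohB1.polyGrading n k) (m - j))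
    (isInvertible_twist n k (m - j))
  have h2 := subsingleton_HH_free_twist n k K (m - j) j hj (by omega)
  have hk1 : IsReg n k (kernel q) (m + 1) := isReg_succ n k (kernel q) m hker
  have h1 := hk1 (j + 1) (by omega)
  have e : m + 1 - ((j + 1 : ℕ) : ℤ) = m - j := by push_cast; ring
  rw [e] at h1
  exact CL.subsingleton_right hSt j h2 h1

variable [Infinite k]

/-- **quotients of a coherent module on `P^n` with Hilbert function in a finite set form a bounded
family.** -/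
theorem isBounded_quot (E : (Proj (CohB1.polyGrading n k)).Modules) (hE : Coh.IsCoh E)
    (Φ : Set (ℤ → ℤ)) (hΦ : Φ.Finite) :
    Pic13.IsBounded k (Proj (CohB1.polyGrading n k)) (fun F => Coh.IsCoh F ∧
      (∃ p : E ⟶ F, Epi p) ∧
      (fun r : ℤ => FGA.eulerCharLE k (Proj (CohB1.polyGrading n k)) (kG n k F r) n) ∈ Φ) := by
  classical
  haveI := hE.1
  have hamp : CohB1.IsAmple (twist (CohB1.polyGrading n k) 1) :=
    Groth.Agent.H5.VAmple.isAmple_O1 n k
  obtain ⟨a, ha⟩ := QC.exists_epi_free_of_isAmple _ hamp E hE.2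
  obtain ⟨K, p₀, hp₀⟩ := ha a le_rfl
  obtain ⟨eΛ⟩ := TW.nonempty_twist_iso_tensorPow (X_range_mem n k) (irrelevant_eq_span n k) a
  have hΛ : PicF.IsInvertible (CohB1.tensorPow (twist (CohB1.polyGrading n k) 1) a) :=
    QC.isInvertible_tensorPow (isInvertible_twist n k 1) a
  haveI := QC.qc_of_isInvertible _ hΛ
  -- the polynomial attached to a function
  have hpolex : ∃ pol : (ℤ → ℤ) → ℚ[X], ∀ f : ℤ → ℤ,
      (∃ P : ℚ[X], ∀ r : ℤ, P.eval (r : ℚ) = ((f r : ℤ) : ℚ)) →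
      ∀ r : ℤ, (pol f).eval (r : ℚ) = ((f r : ℤ) : ℚ) := by
    refine ⟨fun f => if h : ∃ P : ℚ[X], ∀ r : ℤ, P.eval (r : ℚ) = ((f r : ℤ) : ℚ)
      then h.choose else 0, ?_⟩
    intro f h
    simp only [dif_pos h]
    exact h.choose_spec
  obtain ⟨pol, hpol⟩ := hpolex
  choose mB hmB0 hmB using fun P : ℚ[X] =>
    MumB.bound n 0 ((P.comp (Polynomial.X + Polynomial.C ((a : ℕ) : ℚ))).natDegree + 1)
      (P.comp (Polynomial.X + Polynomial.C ((a : ℕ) : ℚ))) (Or.inr (Nat.lt_succ_self _))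
  obtain ⟨mS, hmS⟩ : ∃ mS : ℕ, ∀ f ∈ hΦ.toFinset, (mB (pol f)).toNat ≤ mS :=
    ⟨hΦ.toFinset.sup (fun f => (mB (pol f)).toNat), fun f hf =>
      Finset.le_sup (f := fun f => (mB (pol f)).toNat) hf⟩
  have hb := isBounded_reg n k (𝟙 (Proj (CohB1.polyGrading n k))) ((mS : ℤ) + ((a : ℕ) : ℤ))
    (hΦ.toFinset.image pol)
  refine isBounded_mono k _ ?_ hb
  rintro F ⟨hF, ⟨p, hp⟩, hf⟩
  haveI := hF.1
  obtain ⟨Q, hQ⟩ := exists_hilbert_polynomial n k F hF
  have hex : ∃ P : ℚ[X], ∀ r : ℤ, P.eval (r : ℚ) =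
      ((FGA.eulerCharLE k (Proj (CohB1.polyGrading n k)) (kG n k F r) n : ℤ) : ℚ) :=
    ⟨Q, fun r => by rw [← hQ r, chi_eq_eulerCharLE]⟩
  have hP : ∀ r : ℤ, (pol (fun r : ℤ =>
      FGA.eulerCharLE k (Proj (CohB1.polyGrading n k)) (kG n k F r) n)).eval (r : ℚ) =
      ((FGA.eulerCharLE k (Proj (CohB1.polyGrading n k)) (kG n k F r) n : ℤ) : ℚ) :=
    hpol _ hex
  have hfmem : (fun r : ℤ => FGA.eulerCharLE k (Proj (CohB1.polyGrading n k)) (kG n k F r) n) ∈
      hΦ.toFinset := hΦ.mem_toFinset.mpr hf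
  generalize hPdef : pol (fun r : ℤ =>
      FGA.eulerCharLE k (Proj (CohB1.polyGrading n k)) (kG n k F r) n) = P at hP
  have hmP : mB P ≤ (mS : ℤ) := by
    have h1 := hmS _ hfmem
    rw [hPdef] at h1
    have h2 := hmB0 P
    omega
  -- the twisted quotient
  have hG : Coh.IsCoh (CohB1.tensorMod F (CohB1.tensorPow (twist (CohB1.polyGrading n k) 1) a)) :=
    ⟨QC.tensorMod_isQuasicoherent _ _, QC.isFiniteType_tensorMod_of_isInvertible F hF.2 _ hΛ⟩
  haveI := hG.1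
  haveI e1 : Epi (KoszTw.tensorMap p (𝟙 (CohB1.tensorPow (twist (CohB1.polyGrading n k) 1) a))) :=
    QC.epi_tensorMap_of_isInvertible p hp _ hΛ
  haveI := hp₀
  have hq : Epi (p₀ ≫ KoszTw.tensorMap p
      (𝟙 (CohB1.tensorPow (twist (CohB1.polyGrading n k) 1) a))) := epi_comp _ _
  have hfree : Coh.IsCoh (FlatMod.freeMod (Proj (CohB1.polyGrading n k)) K) :=
    DF.isCoh_freeMod _ K
  have hS : (ShortComplex.mk (kernel.ι (p₀ ≫ KoszTw.tensorMap p
      (𝟙 (CohB1.tensorPow (twist (CohB1.polyGrading n k) 1) a))))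
      (p₀ ≫ KoszTw.tensorMap p (𝟙 (CohB1.tensorPow (twist (CohB1.polyGrading n k) 1) a)))
      (kernel.condition _)).ShortExact :=
    { exact := ShortComplex.exact_kernel _
      mono_f := inferInstanceAs (Mono (kernel.ι _))
      epi_g := hq }
  have hreg0 : IsReg n k (FlatMod.freeMod (Proj (CohB1.polyGrading n k)) K) 0 :=
    fun j hj => subsingleton_HH_free_twist n k K (0 - j) j hj (by omega)
  have hchiG : ∀ t : ℤ, ((PN.chi n k (kG n k (CohB1.tensorMod F
      (CohB1.tensorPow (twist (CohB1.polyGrading n k) 1) a)) t) : ℤ) : ℚ) =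
      (P.comp (Polynomial.X + Polynomial.C ((a : ℕ) : ℚ))).eval (t : ℚ) := by
    intro t
    have e : ((((a : ℕ) : ℤ) + t : ℤ) : ℚ) = (t : ℚ) + ((a : ℕ) : ℚ) := by push_cast; ring
    rw [PN.chi_iso n k (shiftIso n k F _ ((a : ℕ) : ℤ) eΛ t), chi_eq_eulerCharLE,
      ← hP (((a : ℕ) : ℤ) + t), e, Polynomial.eval_comp, Polynomial.eval_add, Polynomial.eval_X,
      Polynomial.eval_C]
  have hker : IsReg n k (kernel (p₀ ≫ KoszTw.tensorMap p
      (𝟙 (CohB1.tensorPow (twist (CohB1.polyGrading n k) 1) a)))) (mB P) :=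
    hmB P k (ShortComplex.mk (kernel.ι (p₀ ≫ KoszTw.tensorMap p
      (𝟙 (CohB1.tensorPow (twist (CohB1.polyGrading n k) 1) a))))
      (p₀ ≫ KoszTw.tensorMap p (𝟙 (CohB1.tensorPow (twist (CohB1.polyGrading n k) 1) a)))
      (kernel.condition _)) hS (PN.isCoh_kernel n k _ hfree hG) hfree hG hreg0 hchiG
  have hregG := isReg_quot n k K _ _ hq hG (mB P) (hmB0 P) hker
  have hregG' : IsReg n k (CohB1.tensorMod F
      (CohB1.tensorPow (twist (CohB1.polyGrading n k) 1) a)) (mS : ℤ) :=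
    isReg_of_le n k _ (mB P) (mS : ℤ) hmP hregG
  refine ⟨hF, ?_, P, Finset.mem_image.mpr ⟨_, hfmem, hPdef⟩, ?_⟩
  · intro q' hq'
    have h1 := hregG' q' hq'
    have h2 := CL.subsingleton_of_iso (shiftIso n k F _ ((a : ℕ) : ℤ) eΛ ((mS : ℤ) - q')) q' h1
    have e : (mS : ℤ) + ((a : ℕ) : ℤ) - (q' : ℤ) = ((a : ℕ) : ℤ) + ((mS : ℤ) - q') := by ring
    rw [e]
    exact CL.subsingleton_of_iso (idTw n k F _).symm q' h2
  · intro d
    rw [eulerCharLE_iso k (idTw n k F d) n]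
    exact (hP d).symm

end

end Groth.Agent.LD.Bdd
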